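import Groth.Agent.AmpleVan.Mul
import Groth.Agent.TFOneX.Basic
import Groth.Agent.H23.TrivBasic
import Groth.Agent.KFlatLib.Scheme.PullCx
import Groth.Agent.Lib.Euler
import Groth.Agent.QCoh.HHExact
import Groth.Agent.QCoh.OpenSub
import Groth.Agent.PnCoh.Finite.SerreVanishing
import Mathlib.Algebra.Homology.HomotopyCategory.Pretriangulated

/-!
# The Koszul complex of sections of an invertible module, as an iterated cone
-/

set_option autoImplicit false
set_option linter.style.haveILetI false
set_option linter.unusedSectionVars false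
set_option backward.isDefEq.respectTransparency false
set_option backward.isDefEq.respectTransparency.types false
set_option maxHeartbeats 1000000

universe u

open CategoryTheory CategoryTheory.Limits AlgebraicGeometry TopologicalSpace Opposite
open CochainComplex CochainComplex.HomComplex

attribute [local instance] HasDerivedCategory.standard

noncomputable section

namespace Groth.Agent.KoszulGG

open Groth.Agent AmpleVan

variable {X : Scheme.{u}}

/-- The cone of a natural transformation of functors to complexes. -/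
def coneFunctor {A : Type*} [Category A] {G G' : A ⥤ CochainComplex X.Modules ℤ} (α : G ⟶ G') :
    A ⥤ CochainComplex X.Modules ℤ where
  obj a := mappingCone (α.app a)
  map f := mappingCone.map _ _ (G.map f) (G'.map f) (α.naturality f).symm
  map_id a := by
    simp only [CategoryTheory.Functor.map_id]
    exact mappingCone.map_id _
  map_comp f g := by
    simp only [Functor.map_comp]
    exact mappingCone.map_comp _ _ _ _ _ _ _ _ _

theorem map_f {K₁ L₁ K₂ L₂ : CochainComplex X.Modules ℤ} (φ₁ : K₁ ⟶ L₁) (φ₂ : K₂ ⟶ L₂)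
    (a : K₁ ⟶ K₂) (b : L₁ ⟶ L₂) (comm : φ₁ ≫ b = a ≫ φ₂) (i : ℤ) :
    (mappingCone.map φ₁ φ₂ a b comm).f i =
      (mappingCone.fst φ₁).1.v i (i + 1) rfl ≫ a.f (i + 1) ≫ (mappingCone.inl φ₂).v (i + 1) i (by omega) +
        (mappingCone.snd φ₁).v i i (add_zero i) ≫ b.f i ≫ (mappingCone.inr φ₂).f i := by
  simp [mappingCone.ext_from_iff _ (i + 1) i rfl, mappingCone.map]

theorem isIso_map_f {K₁ L₁ K₂ L₂ : CochainComplex X.Modules ℤ} (φ₁ : K₁ ⟶ L₁) (φ₂ : K₂ ⟶ L₂)
    (a : K₁ ⟶ K₂) (b : L₁ ⟶ L₂) (comm : φ₁ ≫ b = a ≫ φ₂) {D : Type*} [Category D] [Preadditive D]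
    (S : X.Modules ⥤ D) [S.Additive] (i : ℤ) [IsIso (S.map (a.f (i + 1)))] [IsIso (S.map (b.f i))] :
    IsIso (S.map ((mappingCone.map φ₁ φ₂ a b comm).f i)) := by
  rw [map_f]
  refine ⟨S.map ((mappingCone.fst φ₂).1.v i (i + 1) rfl) ≫ inv (S.map (a.f (i + 1))) ≫
      S.map ((mappingCone.inl φ₁).v (i + 1) i (by omega)) +
    S.map ((mappingCone.snd φ₂).v i i (add_zero i)) ≫ inv (S.map (b.f i)) ≫
      S.map ((mappingCone.inr φ₁).f i), ?_, ?_⟩
  all_goals
    have e1 : ∀ {K' L' : CochainComplex X.Modules ℤ} (ψ : K' ⟶ L') {Z} (g : S.obj (K'.X (i + 1)) ⟶ Z),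
        S.map ((mappingCone.inl ψ).v (i + 1) i (by omega)) ≫ S.map ((mappingCone.fst ψ).1.v i (i + 1) rfl) ≫ g = g :=
      fun ψ _ g => by rw [← Functor.map_comp_assoc, mappingCone.inl_v_fst_v, CategoryTheory.Functor.map_id, Category.id_comp]
    have e2 : ∀ {K' L' : CochainComplex X.Modules ℤ} (ψ : K' ⟶ L') {Z} (g : S.obj (L'.X i) ⟶ Z),
        S.map ((mappingCone.inr ψ).f i) ≫ S.map ((mappingCone.snd ψ).v i i (add_zero i)) ≫ g = g :=
      fun ψ _ g => by rw [← Functor.map_comp_assoc, mappingCone.inr_f_snd_v, CategoryTheory.Functor.map_id, Category.id_comp]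
    have e3 : ∀ {K' L' : CochainComplex X.Modules ℤ} (ψ : K' ⟶ L') {Z} (g : S.obj (L'.X i) ⟶ Z),
        S.map ((mappingCone.inl ψ).v (i + 1) i (by omega)) ≫ S.map ((mappingCone.snd ψ).v i i (add_zero i)) ≫ g = 0 :=
      fun ψ _ g => by rw [← Functor.map_comp_assoc, mappingCone.inl_v_snd_v, Functor.map_zero, zero_comp]
    have e4 : ∀ {K' L' : CochainComplex X.Modules ℤ} (ψ : K' ⟶ L') {Z} (g : S.obj (K'.X (i + 1)) ⟶ Z),
        S.map ((mappingCone.inr ψ).f i) ≫ S.map ((mappingCone.fst ψ).1.v i (i + 1) rfl) ≫ g = 0 :=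
      fun ψ _ g => by rw [← Functor.map_comp_assoc, mappingCone.inr_f_fst_v, Functor.map_zero, zero_comp]
    simp only [Functor.map_add, Functor.map_comp, Preadditive.add_comp, Preadditive.comp_add, Category.assoc,
      e1, e2, e3, e4, comp_zero, add_zero, zero_add, IsIso.hom_inv_id_assoc, IsIso.inv_hom_id_assoc]
    rw [← S.map_comp, ← S.map_comp, ← S.map_add]
    exact (congrArg S.map (mappingCone.id_X _ i (i + 1) rfl)).trans (S.map_id _)

variable (M L : X.Modules) (θ : tw M ⋙ tw L ≅ 𝟭 X.Modules)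

/-- Multiplication by a section, as a natural transformation `- ⊗ M ⟶ id`. -/
def σ (s : Γ(L, ⊤)) : tw M ⟶ 𝟭 X.Modules where
  app F := mulSec s ((tw M).obj F) ≫ θ.hom.app F
  naturality F F' φ := by
    rw [← Category.assoc, mulSec_naturality, Category.assoc, Category.assoc]
    exact congrArg (mulSec s ((tw M).obj F) ≫ ·) (θ.hom.naturality φ)

/-- The Koszul complex of a list of sections. -/
def K : List Γ(L, ⊤) → X.Modules ⥤ CochainComplex X.Modules ℤ
  | [] => HomologicalComplex.single _ (ComplexShape.up ℤ) 0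
  | s :: t => coneFunctor (G := tw M ⋙ K t) (G' := K t) (Functor.whiskerRight (σ M L θ s) (K t))

theorem K_cons_obj (s : Γ(L, ⊤)) (t : List Γ(L, ⊤)) (F : X.Modules) :
    (K M L θ (s :: t)).obj F = mappingCone ((K M L θ t).map ((σ M L θ s).app F)) := rfl

theorem isZero_X : ∀ (t : List Γ(L, ⊤)) (F : X.Modules) (i : ℤ), (0 < i ∨ i + t.length < 0) →
    IsZero (((K M L θ t).obj F).X i)
  | [], F, i, h => HomologicalComplex.isZero_single_obj_X _ _ _ _ (by simp only [List.length_nil] at h; omega)
  | s :: t, F, i, h => by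
    simp only [List.length_cons, Nat.cast_add, Nat.cast_one] at h
    rw [K_cons_obj, mappingCone.isZero_X_iff]
    exact ⟨isZero_X t _ _ (by omega), isZero_X t _ _ (by omega)⟩

/-- A cohomology group of a term vanishes once it does for the twists it is built from. -/
theorem subsingleton_X : ∀ (t : List Γ(L, ⊤)) (F : X.Modules) (i : ℤ) (q : ℕ),
    (∀ j : ℕ, i = -(j : ℤ) → Subsingleton (Coh.HH X (((tw M).obj)^[j] F) q)) →
      Subsingleton (Coh.HH X (((K M L θ t).obj F).X i) q)
  | [], F, i, q, h => by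
    by_cases hi : i = 0
    · subst hi
      exact QCoh.subsingleton_HH_of_iso (HomologicalComplex.singleObjXSelf (ComplexShape.up ℤ) 0 F).symm q (h 0 rfl)
    · exact Euler.subsingleton_HH_of_isZero (HomologicalComplex.isZero_single_obj_X _ _ _ _ hi) q
  | s :: t, F, i, q, h => by
    let φ := (K M L θ t).map ((σ M L θ s).app F)
    let S := ShortComplex.mk ((mappingCone.inr φ).f i) ((mappingCone.fst φ).1.v i (i + 1) rfl) (by simp)
    have hS : S.ShortExact := ShortComplex.Splitting.shortExact
      { r := (mappingCone.snd φ).v i i (add_zero i)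
        s := (mappingCone.inl φ).v (i + 1) i (by omega)
        f_r := by simp [S]
        s_g := by simp [S]
        id := by
          simp only [S]
          rw [add_comm]
          exact mappingCone.id_X φ i (i + 1) rfl }
    refine QCoh.subsingleton_HH_X₂ hS q (subsingleton_X t F i q h) (subsingleton_X t _ (i + 1) q fun j hj => ?_)
    have := h (j + 1) (by push_cast; omega)
    rwa [Function.iterate_succ_apply] at this

/-- The property of a morphism to be an isomorphism at the point. -/
abbrev StalkIso (x : X) {F G : X.Modules} (φ : F ⟶ G) : Prop := IsIso ((DerSch.stalkFunctor X x).map φ)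

theorem stalkIso_tw (x : X) {F G : X.Modules} (φ : F ⟶ G) [StalkIso x φ] : StalkIso x ((tw M).map φ) :=
  (NatIso.isIso_map_iff (KFlatLib.stalkTensorRightIso M x) φ).2
    (inferInstanceAs (IsIso ((MonoidalCategory.tensorRight _).map ((DerSch.stalkFunctor X x).map φ))))

theorem stalkIso_map (x : X) : ∀ (t : List Γ(L, ⊤)) {F G : X.Modules} (φ : F ⟶ G), StalkIso x φ →
    IsIso ((KFlatLib.stalkCx x).map ((K M L θ t).map φ))
  | [], F, G, φ, h => by
    haveI : ∀ i, IsIso (((KFlatLib.stalkCx x).map ((K M L θ []).map φ)).f i) := fun i => by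
      show IsIso ((DerSch.stalkFunctor X x).map (((HomologicalComplex.single _ (ComplexShape.up ℤ) 0).map φ).f i))
      by_cases hi : i = 0
      · subst hi
        rw [HomologicalComplex.single_map_f_self]
        simp only [Functor.map_comp]
        haveI : IsIso ((DerSch.stalkFunctor X x).map φ) := h
        infer_instance
      · exact isIso_of_source_target_iso_zero _
          ((DerSch.stalkFunctor X x).map_isZero (HomologicalComplex.isZero_single_obj_X _ _ _ _ hi)).isoZero
          ((DerSch.stalkFunctor X x).map_isZero (HomologicalComplex.isZero_single_obj_X _ _ _ _ hi)).isoZero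
    exact HomologicalComplex.Hom.isIso_of_components _
  | s :: t, F, G, φ, h => by
    haveI := h
    haveI := stalkIso_map x t φ h
    haveI := stalkIso_map x t ((tw M).map φ) (stalkIso_tw M x φ)
    haveI : ∀ i, IsIso (((KFlatLib.stalkCx x).map ((K M L θ (s :: t)).map φ)).f i) := fun i => by
      let a := (K M L θ t).map ((tw M).map φ)
      let b := (K M L θ t).map φ
      let φ₁ := (K M L θ t).map ((σ M L θ s).app F)
      let φ₂ := (K M L θ t).map ((σ M L θ s).app G)
      let S := DerSch.stalkFunctor X x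
      haveI : S.Additive := inferInstanceAs (DerSch.stalkFunctor X x).Additive
      haveI : IsIso (S.map (a.f (i + 1))) :=
        inferInstanceAs (IsIso ((HomologicalComplex.eval _ _ (i + 1)).map ((KFlatLib.stalkCx x).map a)))
      haveI : IsIso (S.map (b.f i)) :=
        inferInstanceAs (IsIso ((HomologicalComplex.eval _ _ i).map ((KFlatLib.stalkCx x).map b)))
      have comm : φ₁ ≫ b = a ≫ φ₂ := ((Functor.whiskerRight (σ M L θ s) (K M L θ t)).naturality φ).symm
      exact isIso_map_f φ₁ φ₂ a b comm S i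
    exact HomologicalComplex.Hom.isIso_of_components _

theorem stalkIso_σ {x : X} {s : Γ(L, ⊤)} (hs : x ∈ H23.TrivBasic.locus s) {F : X.Modules}
    (hF : PicF.IsInvertible ((tw M).obj F)) : StalkIso x ((σ M L θ s).app F) := by
  obtain ⟨V, hV, u₀, hu₀⟩ := InvX.exists_frame hF x
  let U := V ⊓ H23.TrivBasic.locus s
  have hx : x ∈ U := ⟨hV, hs⟩
  let u := AModX.res ((tw M).obj F) (inf_le_left : U ≤ V) u₀
  have hu : InvX.IsFrame u := hu₀.res inf_le_left
  have hl : InvX.IsFrame (AModX.res L (le_top : U ≤ ⊤) s) := H23.TrivBasic.isFrame_res_of_le_locus inf_le_right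
  have hue := InvX.isFrame_tmul hu hl
  haveI : IsIso ((DerSch.stalkFunctor X x).map (mulSec s ((tw M).obj F))) := by
    refine (ConcreteCategory.isIso_iff_bijective _).2 ?_
    have key : ∀ c : X.presheaf.stalk x,
        TFOneX.sm (mulSec s ((tw M).obj F)) x (c • ((tw M).obj F).presheaf.germ U x hx u) =
          c • ((tw L).obj ((tw M).obj F)).presheaf.germ U x hx (InvX.tmul u (AModX.res L (le_top : U ≤ ⊤) s)) :=
      fun c => ((TFOneX.sm (mulSec s ((tw M).obj F)) x).map_smul _ _).trans
        (congrArg (c • ·) ((DerSch.stalkFunctor_map_germ x _ U hx u).trans (by rw [mulSec_app])))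
    constructor
    · intro y₁ y₂ hy
      obtain ⟨c₁, rfl⟩ := (hu.germ_bijective hx).2 y₁
      obtain ⟨c₂, rfl⟩ := (hu.germ_bijective hx).2 y₂
      rw [(hue.germ_bijective hx).1 (((key c₁).symm.trans hy).trans (key c₂))]
    · intro y
      obtain ⟨c, hc⟩ := (hue.germ_bijective hx).2 y
      exact ⟨_, (key c).trans hc⟩
  show IsIso ((DerSch.stalkFunctor X x).map (mulSec s ((tw M).obj F) ≫ θ.hom.app F))
  rw [Functor.map_comp]
  infer_instance

/-- The complex is exact at the points where some section generates. -/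
theorem acyclic_stalk {x : X} (hM : PicF.IsInvertible M) : ∀ (t : List Γ(L, ⊤)),
    (∃ s ∈ t, x ∈ H23.TrivBasic.locus s) → ∀ (F : X.Modules), PicF.IsInvertible F →
      ((KFlatLib.stalkCx x).obj ((K M L θ t).obj F)).Acyclic
  | [], h, _, _ => by obtain ⟨_, h, _⟩ := h; cases h
  | s :: t, h, F, hF => by
    let φ := (K M L θ t).map ((σ M L θ s).app F)
    have hG : PicF.IsInvertible ((tw M).obj F) := InvX.isInvertible_tensorMod hF hM
    refine KFlatLib.acyclic_of_iso (mappingCone.mapHomologicalComplexIso φ (DerSch.stalkFunctor X x)).symm ?_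
    haveI : QuasiIso ((KFlatLib.stalkCx x).map φ) := by
      by_cases hs : x ∈ H23.TrivBasic.locus s
      · haveI := stalkIso_map M L θ x t _ (stalkIso_σ M L θ hs hG)
        infer_instance
      · obtain ⟨s', hs't, hs'⟩ := h
        have ht : ∃ s ∈ t, x ∈ H23.TrivBasic.locus s := by
          rcases List.mem_cons.1 hs't with rfl | h'
          · exact absurd hs' hs
          · exact ⟨s', h', hs'⟩
        have h1 := (HomologicalComplex.acyclic_iff _).1 (acyclic_stalk hM t ht _ hG)
        have h2 := (HomologicalComplex.acyclic_iff _).1 (acyclic_stalk hM t ht _ hF)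
        exact ⟨fun i => (quasiIsoAt_iff_exactAt _ i (h1 i)).2 (h2 i)⟩
    exact KFlatLib.acyclic_cone_of_quasiIso _

theorem acyclic (hM : PicF.IsInvertible M) (t : List Γ(L, ⊤)) (ht : ∀ x, ∃ s ∈ t, x ∈ H23.TrivBasic.locus s)
    {F : X.Modules} (hF : PicF.IsInvertible F) : ((K M L θ t).obj F).Acyclic :=
  (KFlatLib.acyclic_iff_stalk _).2 fun x => acyclic_stalk M L θ hM t (ht x) F hF

/-- Splitting an exact complex concentrated in degrees `≤ 0`. -/
theorem app_top_surjective (C : CochainComplex X.Modules ℤ) (hC : C.Acyclic) (r : ℕ)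
    (hpos : ∀ i : ℤ, 0 < i → IsZero (C.X i)) (hneg : ∀ i : ℤ, i + r < 0 → IsZero (C.X i))
    (hvan : ∀ q : ℕ, 1 ≤ q → q < r → Subsingleton (Coh.HH X (C.X (-((q + 1 : ℕ) : ℤ))) q)) :
    Function.Surjective ((C.d (-1) 0).app ⊤) := by
  have hex : ∀ i j k : ℤ, i + 1 = j → j + 1 = k → (ShortComplex.mk (C.d i j) (C.d j k) (C.d_comp_d i j k)).Exact :=
    fun i j k hij hjk => (HomologicalComplex.exactAt_iff' C i j k ((ComplexShape.up ℤ).prev_eq' hij)
      ((ComplexShape.up ℤ).next_eq' hjk)).1 (hC j)
  let S : ∀ i : ℤ, ShortComplex X.Modules := fun i =>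
    ShortComplex.mk (kernel.ι (C.d i (i + 1))) (kernel.lift (C.d (i + 1) (i + 1 + 1)) (C.d i (i + 1)) (C.d_comp_d _ _ _))
      (by
        refine (cancel_mono (kernel.ι (C.d (i + 1) (i + 1 + 1)))).1 ?_
        rw [Category.assoc, kernel.lift_ι, kernel.condition, zero_comp])
  have hS : ∀ i, (S i).ShortExact := fun i => by
    haveI : Epi (S i).g := (ShortComplex.exact_iff_epi_kernel_lift
      (ShortComplex.mk (C.d i (i + 1)) (C.d (i + 1) (i + 1 + 1)) (C.d_comp_d _ _ _))).1 (hex _ _ _ rfl rfl)
    haveI : Mono (S i).f := inferInstanceAs (Mono (kernel.ι _))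
    let T := ShortComplex.mk (kernel.ι (C.d i (i + 1))) (C.d i (i + 1)) (kernel.condition _)
    let φ : S i ⟶ T := { τ₁ := 𝟙 _, τ₂ := 𝟙 _, τ₃ := kernel.ι _ }
    haveI : Epi φ.τ₁ := inferInstanceAs (Epi (𝟙 _))
    haveI : IsIso φ.τ₂ := inferInstanceAs (IsIso (𝟙 _))
    haveI : Mono φ.τ₃ := inferInstanceAs (Mono (kernel.ι _))
    exact { exact := (ShortComplex.exact_iff_of_epi_of_isIso_of_mono φ).2
              (ShortComplex.exact_of_f_is_kernel _ (kernelIsKernel _)) }
  have key : ∀ (e q : ℕ), 1 ≤ q → r + 1 = q + e →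
      Subsingleton (Coh.HH X (kernel (C.d (-(q : ℤ)) (-(q : ℤ) + 1))) q) := by
    intro e
    induction e with
    | zero =>
      intro q _ hq
      exact Euler.subsingleton_HH_of_isZero
        (IsZero.of_mono (kernel.ι _) (hneg _ (by omega))) q
    | succ e ih =>
      intro q hq1 hq
      have h1 := ih (q + 1) (by omega) (by omega)
      have h2 : Subsingleton (Coh.HH X (C.X (-((q + 1 : ℕ) : ℤ))) q) := by
        by_cases h : q < r
        · exact hvan q hq1 h
        · exact Euler.subsingleton_HH_of_isZero (hneg _ (by push_cast; omega)) q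
      have h3 := PnCoh.Finite.subsingleton_HH_X₃ (hS (-((q + 1 : ℕ) : ℤ))) q h2 h1
      rwa [show (S (-((q + 1 : ℕ) : ℤ))).X₃ = kernel (C.d (-(q : ℤ)) (-(q : ℤ) + 1)) by
        show kernel (C.d _ _) = _
        rw [show -((q + 1 : ℕ) : ℤ) + 1 = -(q : ℤ) by push_cast; ring]] at h3
  have h1 : Subsingleton (Coh.HH X (kernel (C.d (-1) 0)) 1) := by
    by_cases hr : 1 ≤ r + 1
    · have := key r 1 le_rfl (by omega)
      simpa using this
    · omega
  have hT : (ShortComplex.mk (kernel.ι (C.d (-1) 0)) (C.d (-1) 0) (kernel.condition _)).ShortExact :=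
    { exact := ShortComplex.exact_of_f_is_kernel _ (kernelIsKernel _)
      mono_f := inferInstanceAs (Mono (kernel.ι _))
      epi_g := (hex (-1) 0 1 (by norm_num) (by norm_num)).epi_f ((hpos 1 one_pos).eq_of_tgt _ _) }
  exact QCoh.app_top_surjective_of_HH_one hT h1

end Groth.Agent.KoszulGG
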