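import Groth.Agent.KoszulGG.Exact
import Groth.Agent.H23.PicMul

/-!
# Surjectivity of multiplication by the Koszul complex
-/

set_option autoImplicit false
set_option linter.style.haveILetI false
set_option linter.unusedSectionVars false
set_option backward.isDefEq.respectTransparency false
set_option backward.isDefEq.respectTransparency.types false
set_option maxHeartbeats 1000000

universe u

open CategoryTheory CategoryTheory.Limits AlgebraicGeometry TopologicalSpace Opposite
open CochainComplex CochainComplex.HomComplex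
open scoped Groth.Agent.H23.PicMul

noncomputable section

namespace Groth.Agent.KoszulGG

open Groth.Agent AmpleVan

variable {X : Scheme.{u}} (M L : X.Modules) (θ : tw M ⋙ tw L ≅ 𝟭 X.Modules)

/-- The augmentation. -/
def p : ∀ t : List Γ(L, ⊤), K M L θ t ⋙ HomologicalComplex.eval _ _ 0 ⟶ 𝟭 X.Modules
  | [] => { app := fun F => (HomologicalComplex.singleObjXSelf (ComplexShape.up ℤ) 0 F).hom
            naturality := fun F G φ => by
              show ((HomologicalComplex.single _ (ComplexShape.up ℤ) 0).map φ).f 0 ≫ _ = _ ≫ φ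
              rw [HomologicalComplex.single_map_f_self, Category.assoc, Category.assoc, Iso.inv_hom_id]
              exact congrArg _ (Category.comp_id φ) }
  | s :: t =>
    { app := fun F => (mappingCone.snd ((K M L θ t).map ((σ M L θ s).app F))).v 0 0 (add_zero 0) ≫ (p t).app F
      naturality := fun F G φ => by
        show ((K M L θ (s :: t)).map φ).f 0 ≫ _ = _
        let φ₁ := (K M L θ t).map ((σ M L θ s).app F)
        let φ₂ := (K M L θ t).map ((σ M L θ s).app G)
        let a := (K M L θ t).map ((tw M).map φ)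
        let b := (K M L θ t).map φ
        have comm : φ₁ ≫ b = a ≫ φ₂ := ((Functor.whiskerRight (σ M L θ s) (K M L θ t)).naturality φ).symm
        have h1 : (mappingCone.map φ₁ φ₂ a b comm).f 0 ≫ (mappingCone.snd φ₂).v 0 0 (add_zero 0) =
            (mappingCone.snd φ₁).v 0 0 (add_zero 0) ≫ b.f 0 := by
          rw [map_f]
          simp
        have h2 : b.f 0 ≫ (p t).app G = (p t).app F ≫ φ := (p t).naturality φ
        exact (Category.assoc _ _ _).symm.trans ((congrArg (· ≫ (p t).app G) h1).trans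
          ((Category.assoc _ _ _).trans ((congrArg (_ ≫ ·) h2).trans (Category.assoc _ _ _).symm))) }

theorem isIso_p : ∀ (t : List Γ(L, ⊤)) (F : X.Modules), IsIso ((p M L θ t).app F)
  | [], F => inferInstanceAs (IsIso (HomologicalComplex.singleObjXSelf (ComplexShape.up ℤ) 0 F).hom)
  | s :: t, F => by
    let φ := (K M L θ t).map ((σ M L θ s).app F)
    haveI := isIso_p t F
    haveI : IsIso ((mappingCone.snd φ).v 0 0 (add_zero 0)) := by
      refine ⟨(mappingCone.inr φ).f 0, ?_, by simp⟩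
      have h := mappingCone.id_X φ 0 1 (by norm_num)
      rw [(isZero_X M L θ t _ 1 (Or.inl one_pos)).eq_of_tgt ((mappingCone.fst φ).1.v 0 1 (by norm_num)) 0,
        zero_comp, zero_add] at h
      exact h
    show IsIso ((mappingCone.snd φ).v 0 0 (add_zero 0) ≫ (p M L θ t).app F)
    infer_instance

theorem app_mem : ∀ (t : List Γ(L, ⊤)) (F : X.Modules) (z : Γ((((K M L θ t).obj F).X (-1)), ⊤)),
    ((((K M L θ t).obj F).d (-1) 0 ≫ (p M L θ t).app F).app ⊤ z : Γ(F, ⊤)) ∈
      AddSubgroup.closure {y : Γ(F, ⊤) | ∃ s ∈ t, ∃ a, ((σ M L θ s).app F).app ⊤ a = y}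
  | [], F, z => by
    have h0 : (((K M L θ []).obj F).d (-1) 0 ≫ (p M L θ []).app F) = 0 :=
      (isZero_X M L θ [] F (-1) (Or.inr (by simp))).eq_of_src _ _
    rw [h0]
    exact zero_mem _
  | s :: t, F, z => by
    let φ := (K M L θ t).map ((σ M L θ s).app F)
    have hn : φ.f 0 ≫ (p M L θ t).app F = (p M L θ t).app ((tw M).obj F) ≫ (σ M L θ s).app F :=
      (p M L θ t).naturality ((σ M L θ s).app F)
    have h : (mappingCone φ).d (-1) 0 ≫ (mappingCone.snd φ).v 0 0 (add_zero 0) ≫ (p M L θ t).app F =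
        (mappingCone.fst φ).1.v (-1) 0 (by norm_num) ≫ (p M L θ t).app ((tw M).obj F) ≫ (σ M L θ s).app F +
          (mappingCone.snd φ).v (-1) (-1) (add_zero _) ≫ ((K M L θ t).obj F).d (-1) 0 ≫ (p M L θ t).app F := by
      rw [mappingCone.d_snd_v_assoc φ (-1) 0 (by norm_num)]
      simp only [Preadditive.add_comp, Category.assoc]
      erw [hn]
      rfl
    show ((mappingCone φ).d (-1) 0 ≫ (mappingCone.snd φ).v 0 0 (add_zero 0) ≫ (p M L θ t).app F).app ⊤ z ∈ _
    rw [h]
    refine AddSubgroup.add_mem _ ?_ ?_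
    · exact AddSubgroup.subset_closure ⟨s, List.mem_cons_self, _, rfl⟩
    · refine AddSubgroup.closure_mono ?_ (app_mem t F _)
      rintro y ⟨s', hs', a, rfl⟩
      exact ⟨s', List.mem_cons_of_mem _ hs', a, rfl⟩

/-- Multiplication is surjective once the diagonal vanishes. -/
theorem surjective_mul {M L : X.Modules} (hL : PicF.IsInvertible L) (hM : ClSub.IsInverseOf M L)
    (t : List Γ(L, ⊤)) (hgen : ∀ x, ∃ s ∈ t, x ∈ H23.TrivBasic.locus s) (b : ℕ)
    (hvan : ∀ q : ℕ, 1 ≤ q → q < t.length → ∀ N : X.Modules, PicF.IsInvertible N →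
      PicF.cl N * PicF.cl L ^ q = PicF.cl L ^ b → Subsingleton (Coh.HH X N q)) :
    Function.Surjective
      ((toSheafify (Opens.grothendieckTopology X) (CohB1.tensorPre (CohB1.tensorPow L b) L).presheaf).app
        (Opposite.op ⊤)) := by
  let _ := H23.PicMul.clMonoid X
  obtain ⟨e⟩ := hM
  let θ : tw M ⋙ tw L ≅ 𝟭 X.Modules :=
    twComp M L ≪≫ (DCoh.tensorBi (X := X)).flip.mapIso e ≪≫ twUnit
  have hc : PicF.cl L * PicF.cl M = 1 := by
    rw [mul_comm, ← H23.PicMul.cl_tensor]
    exact H23.PicMul.cl_eq_iff.2 ⟨e⟩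
  have hM' : PicF.IsInvertible M := by
    obtain ⟨D, hD, eD⟩ := H23.PicInv.exists_inverse hL
    have h1 : PicF.cl L * PicF.cl D = 1 := H23.PicMul.cl_eq_iff.2 eD
    obtain ⟨w⟩ := H23.PicMul.cl_eq_iff.1 (left_inv_eq_right_inv ((mul_comm _ _).trans h1) hc)
    exact H23.PicMul.isInvertible_of_iso w hD
  let F := CohB1.tensorPow L (b + 1)
  have hF : PicF.IsInvertible F := InvX.isInvertible_tensorPow hL (b + 1)
  have hit : ∀ j : ℕ, PicF.IsInvertible (((tw M).obj)^[j] F) ∧
      PicF.cl (((tw M).obj)^[j] F) * PicF.cl L ^ j = PicF.cl L ^ (b + 1) := by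
    intro j
    induction j with
    | zero => exact ⟨hF, by simp [F, H23.PicMul.cl_tensorPow]⟩
    | succ j ih =>
      rw [Function.iterate_succ_apply']
      refine ⟨InvX.isInvertible_tensorMod ih.1 hM', ?_⟩
      show PicF.cl (CohB1.tensorMod _ M) * _ = _
      rw [H23.PicMul.cl_tensor, ← ih.2, pow_succ, mul_assoc]
      congr 1
      rw [mul_left_comm, mul_comm (PicF.cl M), hc, mul_one]
  have hsurj : Function.Surjective ((((K M L θ t).obj F).d (-1) 0).app ⊤) := by
    refine app_top_surjective _ (acyclic M L θ hM' t hgen hF) t.length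
      (fun i hi => isZero_X M L θ t F i (Or.inl hi)) (fun i hi => isZero_X M L θ t F i (Or.inr hi))
      fun q hq1 hq => subsingleton_X M L θ t F _ q fun j hj => ?_
    obtain rfl : j = q + 1 := by omega
    refine hvan q hq1 hq _ (hit (q + 1)).1 ?_
    have h := congrArg (· * PicF.cl M) (hit (q + 1)).2
    rwa [pow_succ (PicF.cl L) q, pow_succ (PicF.cl L) b, mul_assoc, mul_assoc, mul_assoc, hc, mul_one,
      mul_one] at h
  haveI := isIso_p M L θ t F
  obtain ⟨w⟩ : Nonempty (CohB1.tensorPow L b ≅ (tw M).obj F) := H23.PicMul.cl_eq_iff.1 (by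
    show _ = PicF.cl (CohB1.tensorMod F M)
    rw [H23.PicMul.cl_tensor, H23.PicMul.cl_tensorPow, H23.PicMul.cl_tensorPow, pow_succ, mul_assoc, hc, mul_one])
  let Φ : CohB1.tensorMod (CohB1.tensorPow L b) L ≅ F := (tw L).mapIso w ≪≫ θ.app F
  let η := (toSheafify (Opens.grothendieckTopology X) (CohB1.tensorPre (CohB1.tensorPow L b) L).presheaf).app
    (Opposite.op ⊤)
  intro v
  let g : Γ(CohB1.tensorMod (CohB1.tensorPow L b) L, ⊤) →+ Γ(F, ⊤) := (Φ.hom.app ⊤).hom
  have hg : Function.Injective g := by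
    haveI : IsIso (Φ.hom.app ⊤) := Scheme.Modules.Hom.isIso_iff_isIso_app.1 inferInstance ⊤
    exact (ConcreteCategory.bijective_of_isIso (Φ.hom.app ⊤)).1
  have hle : AddSubgroup.closure {y : Γ(F, ⊤) | ∃ s ∈ t, ∃ a, ((σ M L θ s).app F).app ⊤ a = y} ≤
      AddSubgroup.map g (AddMonoidHom.range η.hom) := by
    refine (AddSubgroup.closure_le _).2 ?_
    rintro y ⟨s, -, a, rfl⟩
    refine ⟨InvX.tmul (w.inv.app ⊤ a) s, ⟨KFlatLib.tm (w.inv.app ⊤ a) s, rfl⟩, ?_⟩
    show (θ.hom.app F).app ⊤ (((tw L).map w.hom).app ⊤ (InvX.tmul (w.inv.app ⊤ a) s)) =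
      (θ.hom.app F).app ⊤ ((mulSec s ((tw M).obj F)).app ⊤ a)
    rw [map_tmul_left, mulSec_app, AModX.res_self]
    have hw : w.hom.app ⊤ (w.inv.app ⊤ a) = a := congr(($(w.inv_hom_id)).app ⊤ a)
    rw [hw]
  let q : (((K M L θ t).obj F).X 0) ≅ F := asIso ((p M L θ t).app F)
  obtain ⟨z, hz⟩ := hsurj (q.inv.app ⊤ (g v))
  have hmem := app_mem M L θ t F z
  have heq : (((K M L θ t).obj F).d (-1) 0 ≫ (p M L θ t).app F).app ⊤ z = g v := by
    show ((p M L θ t).app F).app ⊤ ((((K M L θ t).obj F).d (-1) 0).app ⊤ z) = g v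
    rw [hz]
    exact congr(($(q.inv_hom_id)).app ⊤ (g v))
  rw [heq] at hmem
  obtain ⟨v', ⟨c, hc'⟩, hv'⟩ := hle hmem
  exact ⟨c, hc'.trans (hg hv')⟩

end Groth.Agent.KoszulGG
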